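import Cfsg.Agent.Lib.NseAlt.Search

/-!
# The element counts of the three smallest alternating groups
-/

set_option autoImplicit false

namespace Cfsg.Agent.Lib.NseAlt

variable {G : Type*} [Group G]

/-- Transferring the set of values into the search's hypotheses. -/
theorem spec_of_image [Finite G] {V : List ℕ} {n2 : ℕ} (hn2 : n2 ∈ V) (hodd : n2 % 2 = 1)
    (hne : n2 ≠ 1)
    (h : (fun m => num G m) '' Set.range (orderOf : G → ℕ) = {x | x ∈ 1 :: V}) : Spec G V n2 := by
  have hmem : ∀ g : G, num G (orderOf g) ∈ 1 :: V := fun g =>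
    h.le ⟨_, ⟨g, rfl⟩, rfl⟩
  have hsurj : ∀ v ∈ V, ∃ g : G, num G (orderOf g) = v := fun v hv => by
    obtain ⟨_, ⟨g, rfl⟩, hg⟩ := h.ge (List.mem_cons_of_mem 1 hv)
    exact ⟨g, hg⟩
  have heven : ∀ g : G, 2 < orderOf g → 2 ∣ num G (orderOf g) := fun g hg =>
    (even_iff_two_dvd.mp (Nat.totient_even hg)).trans (OrderCount.totient_dvd_card_orderOf _)
  refine ⟨?_, fun g hg => ?_, hsurj⟩
  · obtain ⟨g, hg⟩ := hsurj n2 hn2
    have hle : orderOf g ≤ 2 := by
      by_contra hlt
      obtain ⟨c, hc⟩ := heven g (not_le.mp hlt)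
      omega
    have hpos := orderOf_pos g
    rcases (show orderOf g = 1 ∨ orderOf g = 2 by omega) with e | e <;> rw [e] at hg
    · exact absurd (hg.symm.trans num_one) hne
    · exact hg
  · rcases List.mem_cons.mp (hmem g) with e | e
    · obtain ⟨c, hc⟩ := heven g hg
      omega
    · exact e

theorem num_eq_card {m : ℕ} (P : G → Prop) (hP : ∀ g, orderOf g = m ↔ P g) :
    num G m = Nat.card {g : G // P g} :=
  Nat.card_congr (Equiv.subtypeEquivRight hP)

theorem num_prime_eq (p : ℕ) [Fact p.Prime] :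
    num G p = Nat.card {g : G // g ^ p = 1 ∧ g ≠ 1} :=
  num_eq_card _ fun _ => orderOf_eq_prime_iff

theorem num_four_eq : num G 4 = Nat.card {g : G // g ^ 4 = 1 ∧ g ^ 2 ≠ 1} := by
  refine num_eq_card _ fun g => ⟨fun h => ⟨by rw [← h, pow_orderOf_eq_one], fun h2 => ?_⟩,
    fun h => ?_⟩
  · have := Nat.le_of_dvd (by norm_num) (orderOf_dvd_of_pow_eq_one h2)
    omega
  · exact orderOf_eq_prime_pow (p := 2) (n := 1) (by simpa using h.2) (by simpa using h.1)

theorem orderOf_le_five (g : G) (h : g = 1 ∨ g ^ 2 = 1 ∨ g ^ 3 = 1 ∨ g ^ 4 = 1 ∨ g ^ 5 = 1) :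
    orderOf g = 1 ∨ orderOf g = 2 ∨ orderOf g = 3 ∨ orderOf g = 4 ∨ orderOf g = 5 := by
  rcases h with rfl | h | h | h | h
  · exact Or.inl orderOf_one
  all_goals
    have hd := orderOf_dvd_of_pow_eq_one h
    have hle := Nat.le_of_dvd (by norm_num) hd
    have hpos : orderOf g ≠ 0 := fun h0 => by simp [h0] at hd
    omega

theorem image_four : (fun m => num ↥(alternatingGroup (Fin 4)) m) ''
    Set.range (orderOf : ↥(alternatingGroup (Fin 4)) → ℕ) = {x | x ∈ [1, 3, 8]} := by
  have h2 : num ↥(alternatingGroup (Fin 4)) 2 = 3 := by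
    rw [num_prime_eq, Nat.card_eq_fintype_card]; decide +kernel
  have h3 : num ↥(alternatingGroup (Fin 4)) 3 = 8 := by
    rw [num_prime_eq, Nat.card_eq_fintype_card]; decide +kernel
  ext x
  simp only [Set.mem_image, Set.mem_range, exists_exists_eq_and, Set.mem_ofPred_eq, List.mem_cons,
    List.not_mem_nil, or_false]
  constructor
  · rintro ⟨g, rfl⟩
    have hall : ∀ g : ↥(alternatingGroup (Fin 4)), g = 1 ∨ g ^ 2 = 1 ∨ g ^ 3 = 1 := by decide +kernel
    rcases hall g with rfl | h | h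
    · exact Or.inl (by rw [orderOf_one, num_one])
    · rcases (Nat.dvd_prime Nat.prime_two).mp (orderOf_dvd_of_pow_eq_one h) with e | e <;> rw [e]
      · exact Or.inl num_one
      · exact Or.inr (Or.inl h2)
    · rcases (Nat.dvd_prime Nat.prime_three).mp (orderOf_dvd_of_pow_eq_one h) with e | e <;> rw [e]
      · exact Or.inl num_one
      · exact Or.inr (Or.inr h3)
  · rintro (rfl | rfl | rfl)
    · exact ⟨1, by rw [orderOf_one, num_one]⟩
    · obtain ⟨g, hg⟩ := num_pos_iff.mp (h2.trans_ne (by norm_num))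
      exact ⟨g, by rw [hg, h2]⟩
    · obtain ⟨g, hg⟩ := num_pos_iff.mp (h3.trans_ne (by norm_num))
      exact ⟨g, by rw [hg, h3]⟩

theorem image_five : (fun m => num ↥(alternatingGroup (Fin 5)) m) ''
    Set.range (orderOf : ↥(alternatingGroup (Fin 5)) → ℕ) = {x | x ∈ [1, 15, 20, 24]} := by
  have : Fact (Nat.Prime 5) := ⟨by norm_num⟩
  have h2 : num ↥(alternatingGroup (Fin 5)) 2 = 15 := by
    rw [num_prime_eq, Nat.card_eq_fintype_card]; decide +kernel
  have h3 : num ↥(alternatingGroup (Fin 5)) 3 = 20 := by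
    rw [num_prime_eq, Nat.card_eq_fintype_card]; decide +kernel
  have h5 : num ↥(alternatingGroup (Fin 5)) 5 = 24 := by
    rw [num_prime_eq, Nat.card_eq_fintype_card]; decide +kernel
  ext x
  simp only [Set.mem_image, Set.mem_range, exists_exists_eq_and, Set.mem_ofPred_eq, List.mem_cons,
    List.not_mem_nil, or_false]
  constructor
  · rintro ⟨g, rfl⟩
    have hall : ∀ g : ↥(alternatingGroup (Fin 5)), g ^ 2 = 1 ∨ g ^ 3 = 1 ∨ g ^ 5 = 1 := by
      decide +kernel
    rcases hall g with h | h | h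
    · rcases (Nat.dvd_prime Nat.prime_two).mp (orderOf_dvd_of_pow_eq_one h) with e | e <;> rw [e]
      · exact Or.inl num_one
      · exact Or.inr (Or.inl h2)
    · rcases (Nat.dvd_prime Nat.prime_three).mp (orderOf_dvd_of_pow_eq_one h) with e | e <;> rw [e]
      · exact Or.inl num_one
      · exact Or.inr (Or.inr (Or.inl h3))
    · rcases (Nat.dvd_prime (by norm_num)).mp (orderOf_dvd_of_pow_eq_one h) with e | e <;> rw [e]
      · exact Or.inl num_one
      · exact Or.inr (Or.inr (Or.inr h5))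
  · rintro (rfl | rfl | rfl | rfl)
    · exact ⟨1, by rw [orderOf_one, num_one]⟩
    · obtain ⟨g, hg⟩ := num_pos_iff.mp (h2.trans_ne (by norm_num))
      exact ⟨g, by rw [hg, h2]⟩
    · obtain ⟨g, hg⟩ := num_pos_iff.mp (h3.trans_ne (by norm_num))
      exact ⟨g, by rw [hg, h3]⟩
    · obtain ⟨g, hg⟩ := num_pos_iff.mp (h5.trans_ne (by norm_num))
      exact ⟨g, by rw [hg, h5]⟩

set_option maxHeartbeats 1000000 in
theorem image_six : (fun m => num ↥(alternatingGroup (Fin 6)) m) ''
    Set.range (orderOf : ↥(alternatingGroup (Fin 6)) → ℕ) = {x | x ∈ [1, 45, 80, 90, 144]} := by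
  have : Fact (Nat.Prime 5) := ⟨by norm_num⟩
  have h2 : num ↥(alternatingGroup (Fin 6)) 2 = 45 := by
    rw [num_prime_eq, Nat.card_eq_fintype_card]; decide +kernel
  have h3 : num ↥(alternatingGroup (Fin 6)) 3 = 80 := by
    rw [num_prime_eq, Nat.card_eq_fintype_card]; decide +kernel
  have h4 : num ↥(alternatingGroup (Fin 6)) 4 = 90 := by
    rw [num_four_eq, Nat.card_eq_fintype_card]; decide +kernel
  have h5 : num ↥(alternatingGroup (Fin 6)) 5 = 144 := by
    rw [num_prime_eq, Nat.card_eq_fintype_card]; decide +kernel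
  ext x
  simp only [Set.mem_image, Set.mem_range, exists_exists_eq_and, Set.mem_ofPred_eq, List.mem_cons,
    List.not_mem_nil, or_false]
  constructor
  · rintro ⟨g, rfl⟩
    have hall : ∀ g : ↥(alternatingGroup (Fin 6)),
        g = 1 ∨ g ^ 2 = 1 ∨ g ^ 3 = 1 ∨ g ^ 4 = 1 ∨ g ^ 5 = 1 := by decide +kernel
    rcases orderOf_le_five g (hall g) with e | e | e | e | e <;> rw [e]
    · exact Or.inl num_one
    · exact Or.inr (Or.inl h2)
    · exact Or.inr (Or.inr (Or.inl h3))
    · exact Or.inr (Or.inr (Or.inr (Or.inl h4)))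
    · exact Or.inr (Or.inr (Or.inr (Or.inr h5)))
  · rintro (rfl | rfl | rfl | rfl | rfl)
    · exact ⟨1, by rw [orderOf_one, num_one]⟩
    · obtain ⟨g, hg⟩ := num_pos_iff.mp (h2.trans_ne (by norm_num))
      exact ⟨g, by rw [hg, h2]⟩
    · obtain ⟨g, hg⟩ := num_pos_iff.mp (h3.trans_ne (by norm_num))
      exact ⟨g, by rw [hg, h3]⟩
    · obtain ⟨g, hg⟩ := num_pos_iff.mp (h4.trans_ne (by norm_num))
      exact ⟨g, by rw [hg, h4]⟩
    · obtain ⟨g, hg⟩ := num_pos_iff.mp (h5.trans_ne (by norm_num))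
      exact ⟨g, by rw [hg, h5]⟩

end Cfsg.Agent.Lib.NseAlt
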