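import Cfsg.Agent.Lib.NseAlt.Search

/-!
# The search for the three smallest alternating groups
-/

set_option autoImplicit false

namespace Cfsg.Agent.Lib.NseAlt

/-- The candidate orders for degree 4. -/
def candFour : List ℕ := [1, 2, 3, 4, 5, 6, 8, 10, 12, 15, 16, 20, 24, 30]

/-- The orders excluded beforehand for degree 4. -/
def absentFour : List ℕ := []

/-- The table for degree 4. -/
def tabFour : List Row :=
  [(1, [3, 8], []),
   (2, [3, 8], [1]),
   (3, [8], [1]),
   (4, [8], [1, 2]),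
   (5, [8], [1]),
   (6, [8], [1, 2, 3]),
   (8, [8], [1, 2, 4]),
   (10, [8], [1, 2, 5]),
   (12, [8], [1, 2, 3, 4, 6]),
   (15, [8], [1, 3, 5]),
   (16, [8], [1, 2, 4, 8]),
   (20, [8], [1, 2, 4, 5, 10]),
   (24, [8], [1, 2, 3, 4, 6, 8, 12]),
   (30, [8], [1, 2, 3, 5, 6, 10, 15])]

set_option maxRecDepth 100000 in
theorem checksFour : primesOK [3, 8] = true ∧ closedUnder [3, 8] candFour absentFour = true ∧
    tableOK [3, 8] candFour tabFour = true ∧ candFour.Pairwise (· < ·) := by
  decide +kernel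

/-- The conclusion for degree 4. -/
def goodFour (s : List (ℕ × ℕ)) : Bool :=
  let tot := (s.map Prod.snd).sum
  (tot == 12 && val s 3 == 8)

set_option maxRecDepth 100000 in
theorem searchFour : (survivors [3, 8] 3 candFour tabFour).all goodFour = true := by
  decide +kernel

/-- The candidate orders for degree 5. -/
def candFive : List ℕ := [1, 2, 3, 4, 5, 6, 7, 8, 9, 10, 12, 14, 15, 16, 18, 20, 21, 24, 25, 28, 30, 35, 36, 42, 45, 50, 56, 70, 72, 84, 90]

/-- The orders excluded beforehand for degree 5. -/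
def absentFive : List ℕ := []

/-- The table for degree 5. -/
def tabFive : List Row :=
  [(1, [15, 20, 24], []),
   (2, [15, 20, 24], [1]),
   (3, [20, 24], [1]),
   (4, [20, 24], [1, 2]),
   (5, [20, 24], [1]),
   (6, [20, 24], [1, 2, 3]),
   (7, [24], [1]),
   (8, [20, 24], [1, 2, 4]),
   (9, [24], [1, 3]),
   (10, [20, 24], [1, 2, 5]),
   (12, [20, 24], [1, 2, 3, 4, 6]),
   (14, [24], [1, 2, 7]),
   (15, [24], [1, 3, 5]),
   (16, [24], [1, 2, 4, 8]),
   (18, [24], [1, 2, 3, 6, 9]),
   (20, [24], [1, 2, 4, 5, 10]),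
   (21, [24], [1, 3, 7]),
   (24, [24], [1, 2, 3, 4, 6, 8, 12]),
   (25, [20], [1, 5]),
   (28, [24], [1, 2, 4, 7, 14]),
   (30, [24], [1, 2, 3, 5, 6, 10, 15]),
   (35, [24], [1, 5, 7]),
   (36, [24], [1, 2, 3, 4, 6, 9, 12, 18]),
   (42, [24], [1, 2, 3, 6, 7, 14, 21]),
   (45, [24], [1, 3, 5, 9, 15]),
   (50, [20], [1, 2, 5, 10, 25]),
   (56, [24], [1, 2, 4, 7, 8, 14, 28]),
   (70, [24], [1, 2, 5, 7, 10, 14, 35]),
   (72, [24], [1, 2, 3, 4, 6, 8, 9, 12, 18, 24, 36]),
   (84, [24], [1, 2, 3, 4, 6, 7, 12, 14, 21, 28, 42]),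
   (90, [24], [1, 2, 3, 5, 6, 9, 10, 15, 18, 30, 45])]

set_option maxRecDepth 100000 in
theorem checksFive : primesOK [15, 20, 24] = true ∧ closedUnder [15, 20, 24] candFive absentFive = true ∧
    tableOK [15, 20, 24] candFive tabFive = true ∧ candFive.Pairwise (· < ·) := by
  decide +kernel

/-- The conclusion for degree 5. -/
def goodFive (s : List (ℕ × ℕ)) : Bool :=
  let tot := (s.map Prod.snd).sum
  ((tot == 60 && val s 5 == 24 && val s 10 == 0 && val s 15 == 0) ||
    (tot == 120 && val s 8 == 20) || (tot == 180 && val s 9 == 24))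

set_option maxRecDepth 100000 in
theorem searchFive : (survivors [15, 20, 24] 15 candFive tabFive).all goodFive = true := by
  decide +kernel

/-- The candidate orders for degree 6. -/
def candSix : List ℕ := [1, 2, 3, 4, 5, 6, 7, 8, 10, 12, 14, 20, 21, 24, 28, 40, 42, 56, 84, 168]

/-- The orders excluded beforehand for degree 6. -/
def absentSix : List ℕ := [9, 25, 16, 15, 35]

/-- The table for degree 6. -/
def tabSix : List Row :=
  [(1, [45, 80, 90, 144], []),
   (2, [45, 80, 90, 144], [1]),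
   (3, [80, 90, 144], [1]),
   (4, [80, 90, 144], [1, 2]),
   (5, [80, 144], [1]),
   (6, [80, 90, 144], [1, 2, 3]),
   (7, [90, 144], [1]),
   (8, [80, 144], [1, 2, 4]),
   (10, [80, 144], [1, 2, 5]),
   (12, [80, 144], [1, 2, 3, 4, 6]),
   (14, [90, 144], [1, 2, 7]),
   (20, [80, 144], [1, 2, 4, 5, 10]),
   (21, [144], [1, 3, 7]),
   (24, [80, 144], [1, 2, 3, 4, 6, 8, 12]),
   (28, [144], [1, 2, 4, 7, 14]),
   (40, [80, 144], [1, 2, 4, 5, 8, 10, 20]),
   (42, [144], [1, 2, 3, 6, 7, 14, 21]),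
   (56, [144], [1, 2, 4, 7, 8, 14, 28]),
   (84, [144], [1, 2, 3, 4, 6, 7, 12, 14, 21, 28, 42]),
   (168, [144], [1, 2, 3, 4, 6, 7, 8, 12, 14, 21, 24, 28, 42, 56, 84])]

set_option maxRecDepth 100000 in
theorem checksSix : primesOK [45, 80, 90, 144] = true ∧ closedUnder [45, 80, 90, 144] candSix absentSix = true ∧
    tableOK [45, 80, 90, 144] candSix tabSix = true ∧ candSix.Pairwise (· < ·) := by
  decide +kernel

/-- The conclusion for degree 6. -/
def goodSix (s : List (ℕ × ℕ)) : Bool :=
  let tot := (s.map Prod.snd).sum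
  ((tot == 360 && val s 5 == 144 && val s 10 == 0 && val s 15 == 0) ||
    (tot == 648 && val s 8 == 144))

set_option maxRecDepth 100000 in
theorem searchSix : (survivors [45, 80, 90, 144] 45 candSix tabSix).all goodSix = true := by
  decide +kernel

theorem six_no_16 {G : Type*} [Group G] [Finite G] (h : Spec G [45, 80, 90, 144] 45) : num G 16 = 0 :=
  num_eq_zero_of_search h 16 [1, 2, 4, 8, 16]
    [(1, [45, 80, 90, 144], []), (2, [45, 80, 90, 144], [1]), (4, [80, 90, 144], [1, 2]), (8, [80, 144], [1, 2, 4]), (16, [80, 144], [1, 2, 4, 8])]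
    (by decide +kernel) (by decide) (by decide) (by decide) (by decide) (by decide)
    (by decide +kernel)

theorem six_no_15 {G : Type*} [Group G] [Finite G] (h : Spec G [45, 80, 90, 144] 45) : num G 15 = 0 :=
  num_eq_zero_of_search h 15 [1, 3, 5, 15]
    [(1, [45, 80, 90, 144], []), (3, [80, 90, 144], [1]), (5, [80, 144], [1]), (15, [80, 144], [1, 3, 5])]
    (by decide +kernel) (by decide) (by decide) (by decide) (by decide) (by decide)
    (by decide +kernel)

theorem six_no_35 {G : Type*} [Group G] [Finite G] (h : Spec G [45, 80, 90, 144] 45) : num G 35 = 0 :=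
  num_eq_zero_of_search h 35 [1, 5, 7, 35]
    [(1, [45, 80, 90, 144], []), (5, [80, 144], [1]), (7, [90, 144], [1]), (35, [144], [1, 5, 7])]
    (by decide +kernel) (by decide) (by decide) (by decide) (by decide) (by decide)
    (by decide +kernel)

theorem six_no_27 {G : Type*} [Group G] [Finite G] (h : Spec G [45, 80, 90, 144] 45) : num G 27 = 0 :=
  num_eq_zero_of_search h 27 [1, 3, 9, 27]
    [(1, [45, 80, 90, 144], []), (3, [80, 90, 144], [1]), (9, [90, 144], [1, 3]), (27, [90, 144], [1, 3, 9])]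
    (by decide +kernel) (by decide) (by decide) (by decide) (by decide) (by decide)
    (by decide +kernel)

theorem six_no_125 {G : Type*} [Group G] [Finite G] (h : Spec G [45, 80, 90, 144] 45) : num G 125 = 0 :=
  num_eq_zero_of_search h 125 [1, 5, 25, 125]
    [(1, [45, 80, 90, 144], []), (5, [80, 144], [1]), (25, [80], [1, 5]), (125, [], [1, 5, 25])]
    (by decide +kernel) (by decide) (by decide) (by decide) (by decide) (by decide)
    (by decide +kernel)

end Cfsg.Agent.Lib.NseAlt
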