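import Cfsg.Agent.Lib.NseAlt.Sylow
import Cfsg.Agent.Lib.NseAlt.Tables
import Cfsg.Agent.Lib.Transfer.Criteria
import Cfsg.Agent.S0494
import Cfsg.Agent.S0497

/-!
# The three alternating groups from their element counts
-/

set_option autoImplicit false

namespace Cfsg.Agent.Lib.NseAlt

open Subgroup

universe u
variable {G : Type u} [Group G] [Finite G]

/-- The number of elements of an odd prime order, picked from the list of values. -/
theorem num_prime {V : List ℕ} {n2 p v : ℕ} (h : Spec G V n2) (hp : p.Prime) (hp2 : 2 < p)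
    (hne : num G p ≠ 0)
    (hV : ∀ w ∈ V, (w + 1) % p = 0 → w % (p - 1) = 0 → w = v) : num G p = v := by
  obtain ⟨g, hg⟩ := num_pos_iff.mp hne
  have hd : p ∣ num G 1 + num G p := by
    have := dvd_sum_num (G := G) (n := p) (hg ▸ orderOf_dvd_natCard g) [1, p]
      (by simp [hp.ne_one.symm]) (fun x => by rw [Nat.dvd_prime hp]; simp)
    simpa using this
  have ht := OrderCount.totient_dvd_card_orderOf (G := G) p
  rw [Nat.totient_prime hp] at ht
  rw [num_one, add_comm] at hd
  exact hV _ (hg ▸ h.mem g (hg ▸ hp2)) (Nat.mod_eq_zero_of_dvd hd) (Nat.mod_eq_zero_of_dvd ht)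

theorem isSimple_of_five (hG : Nat.card G = 60 ∨ Nat.card G = 360)
    (h5 : 10 * Nat.card (Sylow 5 G) = Nat.card G) (h10 : num G 10 = 0) (h15 : num G 15 = 0) :
    IsSimpleGroup G := by
  classical
  have : Fact (Nat.Prime 5) := ⟨by norm_num⟩
  have hd : 5 ∣ Nat.card G := by rcases hG with h | h <;> (rw [h]; norm_num)
  have hd' : Nat.card G ∣ 360 := by rcases hG with h | h <;> rw [h] <;> norm_num
  have : Nontrivial G := Finite.one_lt_card_iff_nontrivial.mp (by rcases hG with h | h <;> omega)
  refine ⟨fun N hN => ?_⟩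
  by_contra hcon
  push Not at hcon
  obtain ⟨hNb, hNt⟩ := hcon
  have h5N : 5 ∣ Nat.card N := five_dvd_of_normal hd hd' h10 h15 hNb
  obtain ⟨P⟩ : Nonempty (Sylow 5 G) := inferInstance
  have hfac : (Nat.card G).factorization 5 = 1 := by
    rcases hG with h | h <;> rw [h] <;> decide +kernel
  have hPc : Nat.card P = 5 := by rw [P.card_eq_multiplicity, hfac, pow_one]
  -- all Sylow subgroups lie in `N`
  obtain ⟨x, hx⟩ := exists_prime_orderOf_dvd_card' (G := N) 5 h5N
  have hall : ∀ Q : Sylow 5 G, (Q : Subgroup G) ≤ N := by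
    intro Q
    obtain ⟨R, hR⟩ := (IsPGroup.of_card (p := 5) (G := zpowers (x : G)) (n := 1)
      (by rw [Nat.card_zpowers, Subgroup.orderOf_coe, hx, pow_one])).exists_le_sylow
    have hRz : zpowers (x : G) = (R : Subgroup G) := eq_of_le_of_card_ge hR
      (by rw [R.card_eq_multiplicity, hfac, pow_one, Nat.card_zpowers, Subgroup.orderOf_coe, hx])
    obtain ⟨g, rfl⟩ := MulAction.exists_smul_eq G R Q
    intro y hy
    rw [Sylow.smul_def] at hy
    obtain ⟨r, hr, rfl⟩ := hy
    exact hN.conj_mem r ((hRz ▸ zpowers_le.mpr x.2 : (R : Subgroup G) ≤ N) hr) g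
  let P' : Sylow 5 N := P.subtype (hall P)
  have hn : Nat.card (Sylow 5 N) = Nat.card (Sylow 5 G) := by
    refine (Nat.card_congr (Equiv.ofBijective (fun Q => Q.subtype (hall Q))
      ⟨fun Q R h => Sylow.subtype_injective h, fun Q => ?_⟩)).symm
    obtain ⟨R, hR⟩ := (Q.2.map N.subtype).exists_le_sylow
    exact ⟨R, Sylow.ext (Q.3 (R.subtype (hall R)).2 fun y hy => hR (mem_map_of_mem _ hy))⟩
  have hP'c : Nat.card P' = 5 := by
    refine Eq.trans ?_ hPc
    exact Nat.card_congr (subgroupOfEquivOfLe (hall P)).toEquiv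
  have hNc := (normalizer ((P' : Subgroup N) : Set N)).index_mul_card
  rw [show (normalizer ((P' : Subgroup N) : Set N)).index = Nat.card (Sylow 5 N) from
    P'.card_eq_index_normalizer.symm, hn] at hNc
  have hle : Nat.card P' ≤ Nat.card (normalizer ((P' : Subgroup N) : Set N)) :=
    card_le_of_le le_normalizer
  rw [hP'c] at hle
  have hidx := N.index_mul_card
  have hi2 : 2 ≤ N.index := by
    have h0 : N.index ≠ 0 := index_ne_zero_of_finite
    have h1 : N.index ≠ 1 := fun h => hNt (index_eq_one.mp h)
    omega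
  have hnorm : Nat.card (normalizer ((P' : Subgroup N) : Set N)) = 5 := by
    have hn0 : 0 < Nat.card (Sylow 5 G) := Nat.card_pos
    have h2 : 2 * (Nat.card (Sylow 5 G) * Nat.card (normalizer ((P' : Subgroup N) : Set N))) ≤
        10 * Nat.card (Sylow 5 G) := by
      rw [hNc, h5, ← hidx]
      exact Nat.mul_le_mul_right _ hi2
    nlinarith
  have heq : normalizer ((P' : Subgroup N) : Set N) = (P' : Subgroup N) :=
    (eq_of_le_of_card_ge le_normalizer (by rw [hP'c, hnorm])).symm
  have : IsCyclic ↥(P' : Subgroup N) := isCyclic_of_prime_card hP'c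
  have hcompl : Cfsg.HasNormalPComplement 5 N := by
    refine Transfer.hasNormalPComplement_of_normalizer_le_centralizer P' ?_
    rw [heq]
    intro a ha b hb
    exact congrArg Subtype.val (IsCyclic.commGroup.mul_comm (⟨b, hb⟩ : ↥(P' : Subgroup N)) ⟨a, ha⟩)
  have hres := Transfer.hasNormalPComplement_iff.mp hcompl
  have := Transfer.pResidual_characteristic (p := 5) (G := N)
  set K : Subgroup G := (Cfsg.pResidual 5 N).map N.subtype with hK
  have : K.Normal := ConjAct.normal_of_characteristic_of_normal
  have hKcard : Nat.card K = Nat.card (Cfsg.pResidual 5 N) := card_map_of_injective N.subtype_injective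
  have hKb : K ≠ ⊥ := by
    intro hb
    have hb' : Cfsg.pResidual 5 N = ⊥ :=
      (map_eq_bot_iff_of_injective _ N.subtype_injective).mp hb
    obtain ⟨n, hn'⟩ := Transfer.index_pResidual (G := N) (p := 5)
    rw [hb', index_bot] at hn'
    have hP'top : (P' : Subgroup N) = ⊤ := by
      refine eq_top_of_card_eq _ ?_
      rw [P'.card_eq_multiplicity, hn', Nat.Prime.factorization_pow (by norm_num), Finsupp.single_eq_same]
    rw [hP'top, card_top] at hP'c
    rw [hP'c] at hNc
    have hn1 : Nat.card (Sylow 5 G) = 1 := by nlinarith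
    omega
  exact hres (hKcard ▸ five_dvd_of_normal hd hd' h10 h15 hKb)

theorem four (h : Spec G [3, 8] 3) : Nonempty (G ≃* alternatingGroup (Fin 4)) := by
  classical
  obtain ⟨hok, hcl, htab, hsort⟩ := checksFour
  obtain ⟨s, hs, htot, hval⟩ := main h candFour absentFour tabFour hok htab hcl
    (by simp [absentFour]) (by decide) (by decide) hsort
  have hg := List.all_eq_true.mp searchFour s hs
  simp only [goodFour, Bool.and_eq_true, beq_iff_eq] at hg
  have := Fact.mk Nat.prime_three
  have htot' : (s.map Prod.snd).sum = Nat.card G := htot.symm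
  have hG : Nat.card G = 12 := htot'.symm.trans hg.1
  have hfac : (Nat.card G).factorization 3 = 1 := by rw [hG]; decide +kernel
  have h3 : num G (3 ^ 1) = 8 := by rw [pow_one, hval, hg.2]
  have hn := (num_eq_of_cyclic hfac (by rw [h3]; norm_num)).1
  rw [h3, pow_one, Nat.totient_prime Nat.prime_three] at hn
  have h4 : Nat.card (Sylow 3 G) = 4 := by omega
  obtain ⟨P⟩ : Nonempty (Sylow 3 G) := inferInstance
  have hP : Nat.card P = 3 := by rw [P.card_eq_multiplicity, hfac, pow_one]
  set f := MulAction.toPermHom G (Sylow 3 G) with hf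
  have hker : f.ker = ⊥ := by
    by_contra hne
    have hleN : f.ker ≤ normalizer ((P : Subgroup G) : Set G) := fun g hg => by
      exact Sylow.smul_eq_iff_mem_normalizer.mp (Equiv.congr_fun (MonoidHom.mem_ker.mp hg) P)
    have hNc := (normalizer ((P : Subgroup G) : Set G)).index_mul_card
    rw [show (normalizer ((P : Subgroup G) : Set G)).index = Nat.card (Sylow 3 G) from
      P.card_eq_index_normalizer.symm, h4, hG] at hNc
    have heq : (P : Subgroup G) = normalizer ((P : Subgroup G) : Set G) :=
      eq_of_le_of_card_ge le_normalizer (by rw [hP]; omega)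
    have hkP : f.ker = (P : Subgroup G) := by
      rw [← heq] at hleN
      refine eq_of_le_of_card_ge hleN ?_
      have hdvd := card_dvd_of_le hleN
      rw [hP, Nat.dvd_prime Nat.prime_three] at hdvd
      rcases hdvd with h1 | h1
      · exact absurd (eq_bot_of_card_eq _ h1) hne
      · rw [hP, h1]
    have : (P : Subgroup G).Normal := hkP ▸ inferInstance
    have := P.unique_of_normal this
    rw [Nat.card_unique] at h4
    omega
  cases nonempty_fintype (Sylow 3 G)
  let e : Sylow 3 G ≃ Fin 4 := (Finite.equivFinOfCardEq h4)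
  set g := e.permCongrHom.toMonoidHom.comp f with hgdef
  have hginj : Function.Injective g :=
    e.permCongrHom.injective.comp ((MonoidHom.ker_eq_bot_iff f).mp hker)
  have hidx : g.range.index = 2 := by
    have h1 := g.range.index_mul_card
    rw [← Nat.card_congr (MonoidHom.ofInjective hginj).toEquiv, hG, Nat.card_perm, Nat.card_fin,
      show Nat.factorial 4 = 24 from rfl] at h1
    omega
  exact ⟨(MonoidHom.ofInjective hginj).trans
    (MulEquiv.subgroupCongr (Equiv.Perm.eq_alternatingGroup_of_index_eq_two hidx))⟩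

theorem five (h : Spec G [15, 20, 24] 15) : Nonempty (G ≃* alternatingGroup (Fin 5)) := by
  classical
  obtain ⟨hok, hcl, htab, hsort⟩ := checksFive
  obtain ⟨s, hs, htot, hval⟩ := main h candFive absentFive tabFive hok htab hcl
    (by simp [absentFive]) (by decide) (by decide) hsort
  have hg := List.all_eq_true.mp searchFive s hs
  have htot' : (s.map Prod.snd).sum = Nat.card G := htot.symm
  simp only [goodFive, htot', ← hval, Bool.and_eq_true, Bool.or_eq_true, beq_iff_eq] at hg
  rcases hg with (⟨⟨⟨hG, h5⟩, h10⟩, h15⟩ | ⟨hG, h8⟩) | ⟨hG, h9⟩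
  · have := Fact.mk (by norm_num : Nat.Prime 5)
    have hn := (num_eq_of_cyclic (p := 5) (a := 1) (by rw [hG]; decide +kernel)
      (by rw [pow_one, h5]; norm_num)).1
    rw [pow_one, h5, Nat.totient_prime (by norm_num)] at hn
    have := isSimple_of_five (Or.inl hG) (by omega) h10 h15
    exact S0494.result hG
  · exfalso
    have := Fact.mk Nat.prime_two
    obtain ⟨hn, hle⟩ := num_eq_of_cyclic (p := 2) (a := 3) (by rw [hG]; decide +kernel)
      (by norm_num [h8])
    have h1 := hle 1 (by norm_num)
    norm_num [h.two] at h1 hn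
    rw [h8, show Nat.totient 8 = 4 by decide +kernel] at hn
    omega
  · exfalso
    have := Fact.mk Nat.prime_three
    obtain ⟨hn, -⟩ := num_eq_of_cyclic (p := 3) (a := 2) (by rw [hG]; decide +kernel)
      (by norm_num [h9])
    norm_num at hn
    rw [h9, show Nat.totient 9 = 6 by decide +kernel] at hn
    have hmod := sylow_mod_one (G := G) (p := 3)
    obtain ⟨hn', hle⟩ := num_eq_of_cyclic (p := 3) (a := 2) (by rw [hG]; decide +kernel)
      (by norm_num [h9])
    have h1 := hle 1 (by norm_num)
    have h3 : num G 3 = 20 := num_prime h Nat.prime_three (by norm_num)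
      (num_ne_zero_of_dvd (m := 9) (by omega) (by norm_num)) (by decide)
    norm_num [h3] at h1
    rw [show Nat.totient 3 = 2 by decide +kernel] at h1
    omega

theorem six_no_nine (h : Spec G [45, 80, 90, 144] 45) : num G 9 = 0 := by
  classical
  by_contra h9
  have := Fact.mk Nat.prime_three
  obtain ⟨g, hg⟩ := num_pos_iff.mp h9
  have hv := hg ▸ h.mem g (by omega)
  have h27 := six_no_27 h
  set a := (Nat.card G).factorization 3 with ha
  have h3a : 3 ^ a ∣ Nat.card G := Nat.ordProj_dvd _ 3
  have hbound := dvd_sum_num h3a [1, 3, 9] (by decide) fun x => by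
    constructor
    · intro hx
      obtain ⟨i, -, hi⟩ := (Nat.dvd_prime_pow Nat.prime_three).mp hx
      have : i < 3 := by
        by_contra hlt
        exact num_ne_zero_of_dvd (num_pos_iff.mpr ⟨x, hi⟩) (pow_dvd_pow 3 (not_lt.mp hlt)) (by simpa using h27)
      interval_cases i <;> simp [hi]
    · intro hx
      have h2a : 2 ≤ a := by
        refine (Nat.prime_three.pow_dvd_iff_le_factorization Nat.card_pos.ne').mp ?_
        exact (show (3 : ℕ) ^ 2 = orderOf g by rw [hg]; norm_num) ▸ orderOf_dvd_natCard g
      refine dvd_trans ?_ (pow_dvd_pow 3 h2a)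
      simp only [List.mem_cons, List.not_mem_nil, or_false] at hx
      rcases hx with e | e | e <;> rw [e] <;> norm_num
  have h3v : num G 3 = 80 := num_prime h Nat.prime_three (by norm_num)
    (num_ne_zero_of_dvd h9 (by norm_num)) (by decide)
  simp only [List.map_cons, List.map_nil, List.sum_cons, List.sum_nil, num_one, h3v] at hbound
  have hdvd9 := OrderCount.totient_dvd_card_orderOf (G := G) 9
  rw [show Nat.totient 9 = 6 by decide +kernel] at hdvd9
  change 6 ∣ num G 9 at hdvd9
  have h2a : 2 ≤ a := (Nat.prime_three.pow_dvd_iff_le_factorization Nat.card_pos.ne').mp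
    ((show (3 : ℕ) ^ 2 = orderOf g by rw [hg]; norm_num) ▸ orderOf_dvd_natCard g)
  simp only [List.mem_cons, List.not_mem_nil, or_false] at hv
  have ha2 : a = 2 := by
    by_contra hne
    have h27' := (pow_dvd_pow 3 (show 3 ≤ a by omega)).trans hbound
    rcases hv with e | e | e | e <;> rw [e] at h27' hdvd9 <;> omega
  obtain ⟨hn, -⟩ := num_eq_of_cyclic (p := 3) (a := 2) (ha.symm.trans ha2) (by simpa using h9)
  norm_num at hn
  rw [show Nat.totient 9 = 6 by decide +kernel] at hn
  have hmod := sylow_mod_one (G := G) (p := 3)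
  rcases hv with e | e | e | e <;> omega

theorem six_no_twentyfive (h : Spec G [45, 80, 90, 144] 45) : num G 25 = 0 := by
  classical
  by_contra h25
  have := Fact.mk (by norm_num : Nat.Prime 5)
  obtain ⟨g, hg⟩ := num_pos_iff.mp h25
  have hv := hg ▸ h.mem g (by omega)
  have h125 := six_no_125 h
  set a := (Nat.card G).factorization 5 with ha
  have h2a : 2 ≤ a := ((by norm_num : Nat.Prime 5).pow_dvd_iff_le_factorization Nat.card_pos.ne').mp
    ((show (5 : ℕ) ^ 2 = orderOf g by rw [hg]; norm_num) ▸ orderOf_dvd_natCard g)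
  have hbound := dvd_sum_num (Nat.ordProj_dvd (Nat.card G) 5) [1, 5, 25] (by decide) fun x => by
    constructor
    · intro hx
      obtain ⟨i, -, hi⟩ := (Nat.dvd_prime_pow (by norm_num)).mp hx
      have : i < 3 := by
        by_contra hlt
        exact num_ne_zero_of_dvd (num_pos_iff.mpr ⟨x, hi⟩) (pow_dvd_pow 5 (not_lt.mp hlt)) (by simpa using h125)
      interval_cases i <;> simp [hi]
    · intro hx
      refine dvd_trans ?_ (pow_dvd_pow 5 h2a)
      simp only [List.mem_cons, List.not_mem_nil, or_false] at hx
      rcases hx with e | e | e <;> rw [e] <;> norm_num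
  have h5v : num G 5 = 144 := num_prime h (by norm_num) (by norm_num)
    (num_ne_zero_of_dvd h25 (by norm_num)) (by decide)
  simp only [List.map_cons, List.map_nil, List.sum_cons, List.sum_nil, num_one, h5v] at hbound
  have hdvd := OrderCount.totient_dvd_card_orderOf (G := G) 25
  rw [show Nat.totient 25 = 20 by decide +kernel] at hdvd
  change 20 ∣ num G 25 at hdvd
  simp only [List.mem_cons, List.not_mem_nil, or_false] at hv
  have ha2 : a = 2 := by
    by_contra hne
    have h' := (pow_dvd_pow 5 (show 3 ≤ a by omega)).trans hbound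
    rcases hv with e | e | e | e <;> rw [e] at h' hdvd <;> omega
  obtain ⟨hn, -⟩ := num_eq_of_cyclic (p := 5) (a := 2) (ha.symm.trans ha2) (by simpa using h25)
  norm_num at hn
  rw [show Nat.totient 25 = 20 by decide +kernel] at hn
  have hmod := sylow_mod_one (G := G) (p := 5)
  rcases hv with e | e | e | e <;> omega

theorem six (h : Spec G [45, 80, 90, 144] 45) : Nonempty (G ≃* alternatingGroup (Fin 6)) := by
  classical
  obtain ⟨hok, hcl, htab, hsort⟩ := checksSix
  obtain ⟨s, hs, htot, hval⟩ := main h candSix absentSix tabSix hok htab hcl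
    (by
      simp only [absentSix, List.mem_cons, List.not_mem_nil, or_false, forall_eq_or_imp, forall_eq]
      exact ⟨six_no_nine h, six_no_twentyfive h, six_no_16 h, six_no_15 h, six_no_35 h⟩)
    (by decide) (by decide) hsort
  have hg := List.all_eq_true.mp searchSix s hs
  have htot' : (s.map Prod.snd).sum = Nat.card G := htot.symm
  simp only [goodSix, htot', ← hval, Bool.and_eq_true, Bool.or_eq_true, beq_iff_eq] at hg
  rcases hg with ⟨⟨⟨hG, h5⟩, h10⟩, h15⟩ | ⟨hG, h8⟩
  · have := Fact.mk (by norm_num : Nat.Prime 5)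
    have hn := (num_eq_of_cyclic (p := 5) (a := 1) (by rw [hG]; decide +kernel)
      (by rw [pow_one, h5]; norm_num)).1
    rw [pow_one, h5, Nat.totient_prime (by norm_num)] at hn
    have := isSimple_of_five (Or.inr hG) (by omega) h10 h15
    exact S0497.result hG
  · exfalso
    have := Fact.mk Nat.prime_two
    obtain ⟨hn, -⟩ := num_eq_of_cyclic (p := 2) (a := 3) (by rw [hG]; decide +kernel)
      (by norm_num [h8])
    have hmod := sylow_mod_one (G := G) (p := 2)
    norm_num at hn
    rw [h8, show Nat.totient 8 = 4 by decide +kernel] at hn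
    omega

end Cfsg.Agent.Lib.NseAlt
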