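import Cfsg.Agent.Lib.OrderCount.Frobenius

/-!
# A search for the possible numbers of elements of each order, given the set of these numbers
-/

set_option autoImplicit false

namespace Cfsg.Agent.Lib.NseAlt

/-- Euler's function, in a form the kernel computes. -/
def phi (m : ℕ) : ℕ := ((List.range m).filter fun a => Nat.gcd m a == 1).length

theorem phi_eq (m : ℕ) : phi m = m.totient := by
  rw [Nat.totient_eq_card_coprime, phi]
  have : (Finset.range m).filter (fun a => m.Coprime a) =
      ((List.range m).filter fun a => Nat.gcd m a == 1).toFinset := by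
    ext a
    simp [Nat.Coprime]
  rw [this, List.toFinset_card_of_nodup (List.nodup_range.filter _)]

/-- The value recorded for `d`. -/
def val (s : List (ℕ × ℕ)) (d : ℕ) : ℕ := (s.lookup d).getD 0

/-- The proper divisors of `m`. -/
def props (m : ℕ) : List ℕ := (List.range m).filter fun d => m % d == 0

/-- An order with the values that `φ` allows and its proper divisors. -/
abbrev Row : Type := ℕ × List ℕ × List ℕ

/-- The table says what it should. -/
def tableOK (V cand : List ℕ) (tab : List Row) : Bool :=
  tab == cand.map fun m => (m, V.filter (fun o => o % phi m == 0), props m)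

/-- Admissible numbers of elements of one order after the state `s`. -/
def opts (n2 : ℕ) (r : Row) (s : List (ℕ × ℕ)) : List ℕ :=
  if r.1 = 1 then [1] else if r.1 = 2 then [n2] else
    0 :: if r.2.2.all (fun d => val s d != 0) then
      (r.2.1.filter fun o => (o + (r.2.2.map (val s)).sum) % r.1 == 0) else []

/-- All admissible states on the candidate orders. -/
def search (n2 : ℕ) : List Row → List (List (ℕ × ℕ)) → List (List (ℕ × ℕ))
  | [], ss => ss
  | r :: rs, ss => search n2 rs (ss.flatMap fun s => (opts n2 r s).map fun o => if o = 0 then s else (r.1, o) :: s)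

/-- The candidate orders are closed enough: leaving them is impossible. -/
def closedUnder (V cand absent : List ℕ) : Bool :=
  cand.all fun x => [2, 3, 5, 7].all fun q =>
    cand.contains (x * q) || absent.any (fun a => x * q % a == 0) || V.all fun o => o % phi (x * q) != 0

/-- The primes that can divide the order. -/
def primesOK (V : List ℕ) : Bool :=
  V.all fun v => ((List.range (v + 2)).all fun p =>
    decide (p ≤ 2) || (v + 1) % p != 0 || v % (p - 1) != 0 || phi p != p - 1 || [2, 3, 5, 7].contains p)

/-- The final test of a state, for the total `tot`. -/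
def final (V : List ℕ) (s : List (ℕ × ℕ)) : Bool :=
  let tot := (s.map Prod.snd).sum
  (decide (2 ^ 20 ≤ tot) || 210 ^ 20 % tot == 0) &&
  V.all (fun v => s.any fun e => e.2 == v) &&
    s.all (fun e => tot % e.1 == 0) &&
    [2, 3, 5, 7].all (fun p => tot % p != 0 || val s p != 0) &&
    [2, 3, 5, 7].all (fun p => (List.range 10).all fun k =>
      tot % p ^ k != 0 || ((s.filter fun e => p ^ k % e.1 == 0).map Prod.snd).sum % p ^ k == 0)

variable {G : Type*} [Group G]

/-- The number of elements of order `m`. -/
noncomputable def num (G : Type*) [Group G] (m : ℕ) : ℕ := Nat.card {g : G // orderOf g = m}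

/-- What the search uses about `G`. -/
structure Spec (G : Type*) [Group G] (V : List ℕ) (n2 : ℕ) : Prop where
  two : num G 2 = n2
  mem : ∀ g : G, 2 < orderOf g → num G (orderOf g) ∈ V
  surj : ∀ v ∈ V, ∃ g : G, num G (orderOf g) = v

variable [Finite G]

theorem num_pos_iff {m : ℕ} : num G m ≠ 0 ↔ ∃ g : G, orderOf g = m := by
  rw [num, Nat.card_ne_zero]
  exact ⟨fun h => ⟨h.1.some.1, h.1.some.2⟩, fun ⟨g, hg⟩ => ⟨⟨⟨g, hg⟩⟩, inferInstance⟩⟩

theorem num_ne_zero_of_dvd {m d : ℕ} (h : num G m ≠ 0) (hd : d ∣ m) : num G d ≠ 0 := by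
  obtain ⟨g, rfl⟩ := num_pos_iff.mp h
  obtain ⟨e, he⟩ := hd
  refine num_pos_iff.mpr ⟨g ^ e, ?_⟩
  have he0 : e ≠ 0 := by
    rintro rfl
    exact (orderOf_pos g).ne' (by rw [he, mul_zero])
  rw [orderOf_pow_of_dvd he0 (Dvd.intro_left d he.symm), he, Nat.mul_div_cancel _ (Nat.pos_of_ne_zero he0)]

omit [Finite G] in
theorem num_one : num G 1 = 1 := by
  rw [num, Nat.card_eq_one_iff_unique]
  exact ⟨⟨fun a b => Subtype.ext ((orderOf_eq_one_iff.mp a.2).trans (orderOf_eq_one_iff.mp b.2).symm)⟩,
    ⟨⟨1, orderOf_one⟩⟩⟩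

theorem sum_num (D : Finset ℕ) (P : G → Prop) (hP : ∀ g, P g ↔ orderOf g ∈ D) :
    Nat.card {g : G // P g} = ∑ d ∈ D, num G d := by
  classical
  cases nonempty_fintype G
  simp only [num, Nat.card_eq_fintype_card, Fintype.card_subtype]
  rw [Finset.card_eq_sum_card_fiberwise (f := fun g : G => orderOf g) (t := D)
    (fun g hg => (hP g).mp (Finset.mem_filter.mp hg).2)]
  refine Finset.sum_congr rfl fun d hd => ?_
  congr 1
  ext g
  simp only [Finset.mem_filter, Finset.mem_univ, true_and]
  exact ⟨fun h => h.2, fun h => ⟨(hP g).mpr (h ▸ hd), h⟩⟩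

theorem dvd_sum_num {n : ℕ} (hn : n ∣ Nat.card G) (L : List ℕ) (hL : L.Nodup)
    (hmem : ∀ g : G, orderOf g ∣ n ↔ orderOf g ∈ L) : n ∣ (L.map (num G)).sum := by
  classical
  have h := OrderCount.dvd_card_pow_eq_one hn
  rw [sum_num L.toFinset (fun g => g ^ n = 1) (fun g => by
    rw [← orderOf_dvd_iff_pow_eq_one, hmem, List.mem_toFinset]), List.sum_toFinset _ hL] at h
  exact h

variable {V : List ℕ} {n2 : ℕ}

theorem mem_prime (h : Spec G V n2) (hok : primesOK V = true) {p : ℕ} (hp : p.Prime)
    (hN : num G p ≠ 0) : p ∈ [2, 3, 5, 7] := by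
  rcases eq_or_ne p 2 with rfl | hp2
  · simp
  obtain ⟨g, hg⟩ := num_pos_iff.mp hN
  have h2 : 2 < p := lt_of_le_of_ne hp.two_le (Ne.symm hp2)
  have hv := hg ▸ h.mem g (hg ▸ h2)
  have hd : p ∣ num G 1 + num G p := by
    have := dvd_sum_num (G := G) (n := p) (hg ▸ orderOf_dvd_natCard g) [1, p]
      (by simp [hp.ne_one.symm]) (fun x => by rw [Nat.dvd_prime hp]; simp)
    simpa using this
  have ht := OrderCount.totient_dvd_card_orderOf (G := G) p
  rw [Nat.totient_prime hp] at ht
  rw [num_one, add_comm] at hd
  have hle : p ≤ num G p + 1 := Nat.le_of_dvd (Nat.succ_pos _) hd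
  have hall := List.all_eq_true.mp ((List.all_eq_true.mp hok) _ hv) p (List.mem_range.mpr (by omega))
  simp only [Bool.or_eq_true, decide_eq_true_eq, bne_iff_ne, ne_eq, List.contains_iff_mem] at hall
  rcases hall with (((h' | h') | h') | h') | h'
  · omega
  · exact absurd (Nat.mod_eq_zero_of_dvd hd) h'
  · exact absurd (Nat.mod_eq_zero_of_dvd ht) h'
  · exact absurd (by rw [phi_eq, Nat.totient_prime hp]) h'
  · exact h'

theorem mem_cand (h : Spec G V n2) (hok : primesOK V = true) {cand absent : List ℕ}
    (hcl : closedUnder V cand absent = true) (hab : ∀ a ∈ absent, num G a = 0) (h1 : 1 ∈ cand) (h2 : 2 ∈ cand) :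
    ∀ m, num G m ≠ 0 → m ∈ cand := by
  intro m
  induction m using Nat.strong_induction_on with
  | _ m ih =>
    intro hm
    obtain ⟨g, hg⟩ := num_pos_iff.mp hm
    rcases eq_or_ne m 1 with rfl | hm1
    · exact h1
    have hq := Nat.minFac_prime hm1
    have hmpos : 0 < m := hg ▸ orderOf_pos g
    have hqm := Nat.minFac_dvd m
    have hx : m / m.minFac ∈ cand :=
      ih _ (Nat.div_lt_self hmpos hq.one_lt) (num_ne_zero_of_dvd hm (Nat.div_dvd_of_dvd hqm))
    have hqmem := mem_prime h hok hq (num_ne_zero_of_dvd hm hqm)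
    have hall := List.all_eq_true.mp ((List.all_eq_true.mp hcl) _ hx) _ hqmem
    rw [Nat.div_mul_cancel hqm] at hall
    simp only [Bool.or_eq_true, List.contains_iff_mem, List.all_eq_true, List.any_eq_true, beq_iff_eq,
      bne_iff_ne, ne_eq] at hall
    rcases hall with (h' | ⟨a, ha, hdvd⟩) | h'
    · exact h'
    · exact absurd (hab a ha) (num_ne_zero_of_dvd hm (Nat.dvd_of_mod_eq_zero hdvd))
    rcases eq_or_ne m 2 with rfl | hm2
    · exact h2
    have hv := hg ▸ h.mem g (by omega)
    refine absurd (Nat.mod_eq_zero_of_dvd ?_) (h' _ hv)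
    rw [phi_eq]
    exact OrderCount.totient_dvd_card_orderOf m

/-- The state of `G` on a list of orders, most recent first. -/
noncomputable def state (G : Type*) [Group G] (l : List ℕ) : List (ℕ × ℕ) :=
  (l.filter fun m => decide (num G m ≠ 0)).map fun m => (m, num G m)

omit [Finite G] in
theorem val_state (l : List ℕ) (d : ℕ) : val (state G l) d = if d ∈ l then num G d else 0 := by
  induction l with
  | nil => simp [val, state]
  | cons a l ih =>
    by_cases ha : num G a = 0
    · have : state G (a :: l) = state G l := by simp [state, ha]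
      rw [this, ih]
      by_cases hd : d = a
      · subst hd; simp [ha]
      · simp [hd]
    · have : state G (a :: l) = (a, num G a) :: state G l := by simp [state, ha]
      rw [this]
      simp only [val, List.lookup_cons] at ih ⊢
      by_cases hd : d = a
      · subst hd; simp
      · have : (d == a) = false := by simpa using hd
        simp only [this, List.mem_cons, hd, false_or]
        exact ih

theorem mem_opts (h : Spec G V n2) {done : List ℕ} {m : ℕ}
    (hdone : ∀ d, d < m → d ∣ m → num G d ≠ 0 → d ∈ done) :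
    num G m ∈ opts n2 (m, V.filter (fun o => o % phi m == 0), props m) (state G done) := by
  classical
  unfold opts
  dsimp only
  split_ifs with e1 e2 e3
  · simp [e1, num_one]
  · simp [e2, h.two]
  all_goals by_cases h0 : num G m = 0
  · simp [h0]
  · obtain ⟨g, hg⟩ := num_pos_iff.mp h0
    have hpos : 0 < m := hg ▸ orderOf_pos g
    refine List.mem_cons_of_mem _ (List.mem_filter.mpr ⟨List.mem_filter.mpr ⟨hg ▸ h.mem g (by omega), ?_⟩, ?_⟩)
    · simp only [beq_iff_eq, phi_eq]
      exact Nat.mod_eq_zero_of_dvd (OrderCount.totient_dvd_card_orderOf m)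
    have hmap : (props m).map (val (state G done)) = (props m).map (num G) := by
      refine List.map_congr_left fun d hd => ?_
      rw [val_state]
      split_ifs with hmem
      · rfl
      · by_contra hne
        exact hmem (hdone d (List.mem_range.mp (List.mem_filter.mp hd).1)
          (Nat.dvd_of_mod_eq_zero (beq_iff_eq.mp (List.mem_filter.mp hd).2)) (Ne.symm hne))
    have hdvd := dvd_sum_num (G := G) (n := m) (hg ▸ orderOf_dvd_natCard g) (m :: props m)
      (List.nodup_cons.mpr ⟨fun hmm => lt_irrefl m (List.mem_range.mp (List.mem_filter.mp hmm).1),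
        List.nodup_range.filter _⟩)
      (fun x => by
        simp only [props, List.mem_cons, List.mem_filter, List.mem_range, beq_iff_eq]
        refine ⟨fun hd => (Nat.le_of_dvd hpos hd).eq_or_lt.imp_right
          fun hlt => ⟨hlt, Nat.mod_eq_zero_of_dvd hd⟩, ?_⟩
        rintro (e | ⟨-, e⟩)
        · exact e ▸ dvd_rfl
        · exact Nat.dvd_of_mod_eq_zero e)
    simp only [List.map_cons, List.sum_cons] at hdvd
    simp only [beq_iff_eq, hmap]
    exact Nat.mod_eq_zero_of_dvd hdvd
  · simp [h0]
  · exfalso
    apply e3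
    rw [List.all_eq_true]
    intro d hd
    have hlt := List.mem_range.mp (List.mem_filter.mp hd).1
    have hdvd : d ∣ m := Nat.dvd_of_mod_eq_zero (beq_iff_eq.mp (List.mem_filter.mp hd).2)
    have hne := num_ne_zero_of_dvd h0 hdvd
    simp [val_state, hdone d hlt hdvd hne, hne]

theorem mem_search (h : Spec G V n2) :
    ∀ (todo done : List ℕ) (ss : List (List (ℕ × ℕ))), state G done ∈ ss →
      todo.Pairwise (· < ·) →
      (∀ m ∈ todo, ∀ d, d ∣ m → num G d ≠ 0 → d ∈ done ∨ d ∈ todo) →
      state G (todo.reverse ++ done) ∈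
        search n2 (todo.map fun m => (m, V.filter (fun o => o % phi m == 0), props m)) ss := by
  intro todo
  induction todo with
  | nil => intro done ss hs _ _; simpa [search] using hs
  | cons m ms ih =>
    intro done ss hs hsort hall
    rw [List.map_cons, search, List.reverse_cons, List.append_assoc, List.singleton_append]
    refine ih (m :: done) _ ?_ hsort.tail fun m' hm' d hdm hd => ?_
    · refine List.mem_flatMap.mpr ⟨_, hs, List.mem_map.mpr ⟨num G m, mem_opts h fun d hlt hdm hd => ?_, ?_⟩⟩
      rotate_left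
      · by_cases h0 : num G m = 0 <;> simp [state, h0]
      rcases hall m List.mem_cons_self d hdm hd with hmem | hmem
      · exact hmem
      · rcases List.mem_cons.mp hmem with rfl | hmem'
        · exact absurd hlt (lt_irrefl _)
        · exact absurd ((List.pairwise_cons.mp hsort).1 d hmem') (by omega)
    · rcases hall m' (List.mem_cons_of_mem _ hm') d hdm hd with hmem | hmem
      · exact Or.inl (List.mem_cons_of_mem _ hmem)
      · rcases List.mem_cons.mp hmem with rfl | hmem'
        · exact Or.inl List.mem_cons_self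
        · exact Or.inr hmem'

theorem dvd_pow_210 (h : Spec G V n2) (hok : primesOK V = true) (hlt : Nat.card G < 2 ^ 20) :
    Nat.card G ∣ 210 ^ 20 := by
  have hpos : Nat.card G ≠ 0 := Nat.card_pos.ne'
  rw [← Nat.factorization_le_iff_dvd hpos (by norm_num)]
  intro p
  by_cases hp0 : (Nat.card G).factorization p = 0
  · rw [hp0]; exact Nat.zero_le _
  have hp := Nat.prime_of_mem_primeFactors
    (Nat.support_factorization (Nat.card G) ▸ Finsupp.mem_support_iff.mpr hp0)
  have hd : p ∣ Nat.card G := Nat.dvd_of_factorization_pos hp0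
  have := Fact.mk hp
  have hmem := mem_prime h hok hp (num_pos_iff.mpr (exists_prime_orderOf_dvd_card' p hd))
  have hle : (Nat.card G).factorization p ≤ 20 := by
    refine ((Nat.pow_lt_pow_iff_right one_lt_two).mp (lt_of_le_of_lt ?_ hlt)).le
    exact (Nat.pow_le_pow_left hp.two_le _).trans (Nat.le_of_dvd Nat.card_pos (Nat.ordProj_dvd _ p))
  refine hle.trans ((hp.pow_dvd_iff_le_factorization (by norm_num)).mp (pow_dvd_pow_of_dvd ?_ 20))
  simp only [List.mem_cons, List.not_mem_nil, or_false] at hmem
  rcases hmem with rfl | rfl | rfl | rfl <;> norm_num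

/-- The states that survive. -/
def survivors (V : List ℕ) (n2 : ℕ) (cand : List ℕ) (tab : List Row) : List (List (ℕ × ℕ)) :=
  (search n2 tab [[]]).filter (final V)

theorem main (h : Spec G V n2) (cand absent : List ℕ) (tab : List Row) (hok : primesOK V = true)
    (htab : tableOK V cand tab = true)
    (hcl : closedUnder V cand absent = true)
    (hab : ∀ a ∈ absent, num G a = 0) (h1 : 1 ∈ cand) (h2 : 2 ∈ cand)
    (hsort : cand.Pairwise (· < ·)) :
    ∃ s ∈ survivors V n2 cand tab, Nat.card G = (s.map Prod.snd).sum ∧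
      ∀ m, num G m = val s m := by
  classical
  have hnd : cand.Nodup := hsort.imp (fun hlt => hlt.ne)
  have hin := mem_cand h hok hcl hab h1 h2
  have hs := mem_search h cand [] [[]] (by simp [state]) hsort fun _ _ d _ hd => Or.inr (hin d hd)
  rw [List.append_nil, ← beq_iff_eq.mp htab] at hs
  have hval : ∀ m, num G m = val (state G cand.reverse) m := fun m => by
    simp only [val_state, List.mem_reverse]
    split_ifs with hm
    · rfl
    · by_contra hne
      exact hm (hin m hne)
  set s := state G cand.reverse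
  have hfun : val s = num G := funext fun m => (hval m).symm
  have hrange : ∀ g : G, orderOf g ∈ cand := fun g => hin _ (num_pos_iff.mpr ⟨g, rfl⟩)
  set f : List ℕ := cand.reverse.filter (fun m => decide (num G m ≠ 0)) with hf
  have hs' : s = f.map fun m => (m, num G m) := rfl
  have hfnd : f.Nodup := (List.nodup_reverse.mpr hnd).filter _
  have hmemf : ∀ m, m ∈ f ↔ num G m ≠ 0 := fun m => by
    simp only [hf, List.mem_filter, List.mem_reverse, decide_eq_true_eq]
    exact and_iff_right_of_imp (hin m)
  have htot' : (s.map Prod.snd).sum = Nat.card G := by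
    rw [hs', List.map_map, show (Prod.snd ∘ fun m => (m, num G m)) = num G from rfl,
      ← List.sum_toFinset _ hfnd, ← sum_num f.toFinset (fun _ : G => True)
      (fun g => iff_of_true trivial (List.mem_toFinset.mpr ((hmemf _).mpr (num_pos_iff.mpr ⟨g, rfl⟩))))]
    exact Nat.card_congr (Equiv.subtypeUnivEquiv fun _ => trivial)
  refine ⟨s, List.mem_filter.mpr ⟨hs, ?_⟩, htot'.symm, hval⟩
  have hval' : ∀ p, val s p = num G p := fun p => (hval p).symm
  simp only [final, htot', hval', Bool.and_eq_true, List.all_eq_true, List.any_eq_true,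
    Bool.or_eq_true, beq_iff_eq, bne_iff_ne, ne_eq]
  refine ⟨⟨⟨⟨?_, fun v hv => ?_⟩, fun e he => ?_⟩, fun p hp => ?_⟩, fun p hp k hk => ?_⟩
  · rw [decide_eq_true_eq]
    exact (le_or_gt (2 ^ 20) (Nat.card G)).imp_right fun hlt =>
      Nat.mod_eq_zero_of_dvd (dvd_pow_210 h hok hlt)
  · obtain ⟨g, hg⟩ := h.surj v hv
    exact ⟨_, hs'.symm ▸ List.mem_map_of_mem ((hmemf _).mpr (num_pos_iff.mpr ⟨g, rfl⟩)), hg⟩
  · rw [hs', List.mem_map] at he
    obtain ⟨m, hm, rfl⟩ := he
    obtain ⟨g, rfl⟩ := num_pos_iff.mp ((hmemf m).mp hm)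
    exact Nat.mod_eq_zero_of_dvd (orderOf_dvd_natCard g)
  · by_cases hd : Nat.card G % p = 0
    · have hpr : p.Prime := by
        simp only [List.mem_cons, List.not_mem_nil, or_false] at hp
        rcases hp with rfl | rfl | rfl | rfl <;> norm_num
      have := Fact.mk hpr
      exact Or.inr (num_pos_iff.mpr (exists_prime_orderOf_dvd_card' p (Nat.dvd_of_mod_eq_zero hd)))
    · exact Or.inl hd
  · by_cases hd : Nat.card G % p ^ k = 0
    · refine Or.inr (Nat.mod_eq_zero_of_dvd ?_)
      rw [hs', List.filter_map, List.map_map]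
      show p ^ k ∣ ((f.filter _).map (num G)).sum
      refine dvd_sum_num (Nat.dvd_of_mod_eq_zero hd) _ (hfnd.filter _) fun x => ?_
      simp only [List.mem_filter, Function.comp_apply, beq_iff_eq, hmemf]
      exact ⟨fun hdv => ⟨num_pos_iff.mpr ⟨x, rfl⟩, Nat.mod_eq_zero_of_dvd hdv⟩,
        fun hm => Nat.dvd_of_mod_eq_zero hm.2⟩
    · exact Or.inl hd

/-- An order excluded by the search on its divisors alone. -/
theorem num_eq_zero_of_search (h : Spec G V n2) (m : ℕ) (divs : List ℕ) (tab : List Row)
    (htab : tableOK V divs tab = true) (hsort : divs.Pairwise (· < ·)) (hm : m ∈ divs)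
    (hdiv : (List.range (m + 1)).all (fun d => m % d != 0 || divs.contains d) = true)
    (hsub : divs.all (fun d => m % d == 0) = true) (hm0 : 0 < m)
    (hs : (search n2 tab [[]]).all (fun s => val s m == 0) = true) : num G m = 0 := by
  have h0 := mem_search h divs [] [[]] (by simp [state]) hsort fun m' hm' d hdm _ => by
    refine Or.inr ?_
    have hd : d ∣ m :=
      hdm.trans (Nat.dvd_of_mod_eq_zero (beq_iff_eq.mp (List.all_eq_true.mp hsub _ hm')))
    have := List.all_eq_true.mp hdiv d (List.mem_range.mpr (Nat.lt_succ_of_le (Nat.le_of_dvd hm0 hd)))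
    simpa [Nat.mod_eq_zero_of_dvd hd] using this
  rw [List.append_nil, ← beq_iff_eq.mp htab] at h0
  have := beq_iff_eq.mp (List.all_eq_true.mp hs _ h0)
  rwa [val_state, if_pos (List.mem_reverse.mpr hm)] at this

end Cfsg.Agent.Lib.NseAlt
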