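import Cfsg.Agent.Lib.NseAlt.Search

/-!
# Cyclic Sylow subgroups and element counts; small groups with a self-centralising five-element
-/

set_option autoImplicit false

namespace Cfsg.Agent.Lib.NseAlt

open Subgroup

variable {G : Type*} [Group G] [Finite G] {p : ℕ} [Fact p.Prime]

theorem card_orderOf_in_sylow {a b : ℕ} (Q : Sylow p G) (hQ : Nat.card Q = p ^ a) {g : G}
    (hg : orderOf g = p ^ a) (hb : b ≤ a) :
    Nat.card {x : ↥(Q : Subgroup G) // orderOf (x : G) = p ^ b} = (p ^ b).totient := by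
  classical
  have hz : IsPGroup p (zpowers g) := IsPGroup.of_card (by rw [Nat.card_zpowers, hg])
  obtain ⟨R, hR⟩ := hz.exists_le_sylow
  have hcard : Nat.card R = p ^ a := (R.card_eq_multiplicity).trans (Q.card_eq_multiplicity.symm.trans hQ)
  have hRz : zpowers g = (R : Subgroup G) := eq_of_le_of_card_ge hR (by
    rw [hcard, Nat.card_zpowers, hg])
  have : IsCyclic ↥(R : Subgroup G) := hRz ▸ inferInstance
  have : IsCyclic ↥(Q : Subgroup G) := isCyclic_of_surjective _ (R.equiv Q).surjective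
  cases nonempty_fintype G
  rw [Nat.card_eq_fintype_card, Fintype.card_subtype]
  have := IsCyclic.card_orderOf_eq_totient (α := ↥(Q : Subgroup G)) (d := p ^ b)
    (by rw [← Nat.card_eq_fintype_card, hQ]; exact pow_dvd_pow p hb)
  simpa [Subgroup.orderOf_coe] using this

/-- With a cyclic Sylow subgroup of order `p ^ a` there are `φ(p ^ a) n_p` elements of that order. -/
theorem num_eq_of_cyclic {a : ℕ} (ha : (Nat.card G).factorization p = a)
    (hne : num G (p ^ a) ≠ 0) :
    num G (p ^ a) = (p ^ a).totient * Nat.card (Sylow p G) ∧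
      ∀ b ≤ a, num G (p ^ b) ≤ (p ^ b).totient * Nat.card (Sylow p G) := by
  classical
  obtain ⟨g, hg⟩ := num_pos_iff.mp hne
  cases nonempty_fintype (Sylow p G)
  have hQ : ∀ Q : Sylow p G, Nat.card Q = p ^ a := fun Q => by rw [Q.card_eq_multiplicity, ha]
  have hsum : ∀ b ≤ a, Nat.card (Σ Q : Sylow p G, {x : ↥(Q : Subgroup G) // orderOf (x : G) = p ^ b}) =
      (p ^ b).totient * Nat.card (Sylow p G) := fun b hb => by
    rw [Nat.card_sigma, Finset.sum_congr rfl fun Q _ => card_orderOf_in_sylow Q (hQ Q) hg hb,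
      Finset.sum_const, Finset.card_univ, smul_eq_mul, Nat.card_eq_fintype_card, Nat.mul_comm]
  let F : ∀ b, (Σ Q : Sylow p G, {x : ↥(Q : Subgroup G) // orderOf (x : G) = p ^ b}) →
      {x : G // orderOf x = p ^ b} := fun _ e => ⟨(e.2.1 : G), e.2.2⟩
  have hsurj : ∀ b, Function.Surjective (F b) := by
    rintro b ⟨x, hx⟩
    obtain ⟨Q, hxQ⟩ := (IsPGroup.of_card (p := p) (G := zpowers x) (n := b)
      (by rw [Nat.card_zpowers, hx])).exists_le_sylow
    exact ⟨⟨Q, ⟨x, hxQ (mem_zpowers x)⟩, hx⟩, rfl⟩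
  refine ⟨?_, fun b hb => (hsum b hb) ▸ Nat.card_le_card_of_surjective _ (hsurj b)⟩
  rw [← hsum a le_rfl]
  refine (Nat.card_congr (Equiv.ofBijective (F a) ⟨?_, hsurj a⟩)).symm
  rintro ⟨Q, ⟨x, hxQ⟩, hx⟩ ⟨R, ⟨y, hyR⟩, hy⟩ h
  have hxy : x = y := congrArg Subtype.val h
  subst hxy
  have hzQ : zpowers x = (Q : Subgroup G) := eq_of_le_of_card_ge (zpowers_le.mpr hxQ)
    (by rw [hQ, Nat.card_zpowers]; exact hx.ge)
  have hzR : zpowers x = (R : Subgroup G) := eq_of_le_of_card_ge (zpowers_le.mpr hyR)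
    (by rw [hQ, Nat.card_zpowers]; exact hy.ge)
  obtain rfl : Q = R := Sylow.ext (hzQ.symm.trans hzR)
  rfl

theorem sylow_mod_one : Nat.card (Sylow p G) % p = 1 := by
  have := card_sylow_modEq_one p G
  rwa [Nat.ModEq, Nat.one_mod_eq_one.mpr (Fact.out (p := p.Prime)).ne_one] at this

omit [Fact p.Prime]


/-- Commuting elements of order five and of prime order `q ≠ 5` give one of order `5 q`. -/
theorem not_commute {x y : G} {q : ℕ} (hq : q.Prime) (hq5 : q ≠ 5) (hx : orderOf x = 5)
    (hy : orderOf y = q) (h0 : num G (5 * q) = 0) : ¬ Commute x y := fun hc => by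
  refine num_pos_iff.mpr ⟨x * y, ?_⟩ h0
  rw [hc.orderOf_mul_eq_mul_orderOf_of_coprime, hx, hy]
  rw [hx, hy]
  exact (Nat.coprime_primes (by norm_num) hq).mpr hq5.symm

/-- A nontrivial normal subgroup of order prime to five is impossible. -/
theorem five_dvd_of_normal (hG : 5 ∣ Nat.card G) (hG' : Nat.card G ∣ 360)
    (h10 : num G 10 = 0) (h15 : num G 15 = 0) {N : Subgroup G} [N.Normal] (hN : N ≠ ⊥) :
    5 ∣ Nat.card N := by
  classical
  by_contra hN5
  obtain ⟨q, hq, hqN⟩ := Nat.exists_prime_and_dvd (n := Nat.card N)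
    (fun h1 => hN (eq_bot_of_card_eq _ h1))
  have := Fact.mk hq
  have : Fact (Nat.Prime 5) := ⟨by norm_num⟩
  have hqG : q ∣ 360 := hqN.trans (N.card_subgroup_dvd_card.trans hG')
  have hq5 : q ≠ 5 := fun h => hN5 (h ▸ hqN)
  have hq23 : q = 2 ∨ q = 3 := by
    have hm : q ∈ Nat.primeFactors 360 := Nat.mem_primeFactors.mpr ⟨hq, hqG, by norm_num⟩
    rw [show Nat.primeFactors 360 = {2, 3, 5} by decide +kernel] at hm
    simpa [hq5] using hm
  obtain ⟨Q⟩ : Nonempty (Sylow q N) := inferInstance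
  set R : Subgroup G := (Q : Subgroup N).map N.subtype with hR
  have htop : normalizer (R : Set G) ⊔ N = ⊤ := Sylow.normalizer_sup_eq_top Q
  have h5 : 5 ∣ Nat.card (normalizer (R : Set G)) := by
    by_contra hno
    have hmul : Nat.card G ∣ Nat.card (normalizer (R : Set G)) * Nat.card N := by
      rw [← N.index_mul_card, ← relIndex_top_right, ← htop, relIndex_sup_right]
      exact Nat.mul_dvd_mul_right (relIndex_dvd_card _ _) _
    exact ((Nat.Prime.dvd_mul (by norm_num)).mp (hG.trans hmul)).elim hno hN5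
  obtain ⟨x, hx⟩ := exists_prime_orderOf_dvd_card' (G := normalizer (R : Set G)) 5 h5
  let ψ : zpowers x →* MulAut R := (normalizerMonoidHom R).comp (zpowers x).subtype
  let _ : MulAction (zpowers x) R := MulAction.compHom R ψ
  have hfix := (IsPGroup.of_card (p := 5) (G := zpowers x) (n := 1)
    (by rw [Nat.card_zpowers, hx, pow_one])).card_modEq_card_fixedPoints R
  have hRcard : Nat.card R = Nat.card Q := card_map_of_injective N.subtype_injective
  obtain ⟨k, hk⟩ := Q.2.exists_card_eq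
  have hdiv : Nat.card R ∣ 360 := (R.card_subgroup_dvd_card).trans hG'
  have hk0 : k ≠ 0 := by
    rintro rfl
    have := Q.dvd_card_of_dvd_card hqN
    rw [hk, pow_zero, Nat.dvd_one] at this
    exact hq.ne_one this
  have hne1 : Nat.card R % 5 ≠ 1 := by
    rw [hRcard, hk]
    rw [hRcard, hk] at hdiv
    rcases hq23 with rfl | rfl
    · have hk3 : k ≤ 3 := by
        by_contra h
        exact absurd ((pow_dvd_pow 2 (show 4 ≤ k by omega)).trans hdiv) (by norm_num)
      interval_cases k <;> simp_all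
    · have hk2 : k ≤ 2 := by
        by_contra h
        exact absurd ((pow_dvd_pow 3 (show 3 ≤ k by omega)).trans hdiv) (by norm_num)
      interval_cases k <;> simp_all
  have hone : (1 : R) ∈ MulAction.fixedPoints (zpowers x) R := fun m => map_one (ψ m)
  obtain ⟨y, hy, hy1⟩ : ∃ y ∈ MulAction.fixedPoints (zpowers x) R, y ≠ (1 : R) := by
    by_contra hcon
    push Not at hcon
    have hsub : MulAction.fixedPoints (zpowers x) R = {1} :=
      Set.eq_singleton_iff_unique_mem.mpr ⟨hone, hcon⟩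
    have h1 : Nat.card (MulAction.fixedPoints (zpowers x) R) = 1 := by rw [hsub]; simp
    rw [h1] at hfix
    exact hne1 hfix
  obtain ⟨j, hj⟩ := (Q.2.map N.subtype : IsPGroup q R) y
  obtain ⟨i, -, hi⟩ := (Nat.dvd_prime_pow hq).mp (orderOf_dvd_of_pow_eq_one hj)
  set z : R := y ^ (orderOf y / q) with hzdef
  have hz : orderOf z = q := orderOf_pow_orderOf_div (orderOf_pos y).ne' (hi ▸
    dvd_pow_self q (fun h0 => hy1 (by rw [← orderOf_eq_one_iff, hi, h0, pow_zero])))
  have hyc : Commute ((x : normalizer (R : Set G)) : G) (y : G) :=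
    mul_inv_eq_iff_eq_mul.mp (congrArg Subtype.val (hy ⟨x, mem_zpowers x⟩))
  have hzc : Commute ((x : normalizer (R : Set G)) : G) (z : G) := by
    rw [hzdef, Subgroup.coe_pow]
    exact hyc.pow_right _
  refine not_commute hq hq5 (by rw [Subgroup.orderOf_coe, hx]) (by rw [Subgroup.orderOf_coe, hz]) ?_ hzc
  rcases hq23 with rfl | rfl
  · exact h10
  · exact h15

end Cfsg.Agent.Lib.NseAlt
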